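import Cfsg.Agent.Lib.CosetEnum.Fi24Y1.Data

/-! Generated certificate. -/

set_option autoImplicit false
set_option maxRecDepth 20000

namespace Cfsg.Lib.CosetEnum.Fi24Y1

theorem closed_0 : closedOK tabF tabZ tabP 828 120 12 [10, 7, 6, 5, 4, 3, 2, 1, 0] 120 0 = true := by decide +kernel

end Cfsg.Lib.CosetEnum.Fi24Y1
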